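import Mathlib
import Cfsg.Prelude.Def_Local
import Cfsg.Prelude.Def_Solvable
import Cfsg.Agent.Core.PCore
import Cfsg.Agent.Core.Fitting
import Cfsg.Agent.Layer.Subnormal
import Cfsg.Agent.Layer.Components
import Cfsg.Agent.Layer.FStar

/-!
The normal closure of an isolated `p`-minimal residual, in the quotient by `O_p`:
basic dichotomy, and its structure.
-/

set_option autoImplicit false
set_option linter.style.haveILetI false

namespace Cfsg.Agent.IsolatedPMin

open Subgroup

variable {A : Type*} [Group A]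

/-- The situation in `A = G / O_p(G)`. -/
structure Ctx (p : ℕ) (R Y Q S L : Subgroup A) : Prop where
  core : Cfsg.pCore p A = ⊥
  pS : IsPGroup p S
  QS : Q ≤ S
  SQ : S ≤ normalizer (Q : Set A)
  SR : S ≤ normalizer (R : Set A)
  normalY : Y.Normal
  RY : R ≤ Y
  Ymin : ∀ N : Subgroup A, N.Normal → R ≤ N → Y ≤ N
  RnQ : ¬ R ≤ normalizer (Q : Set A)
  RQ : R ≤ normalClosure (Q : Set A)
  dich : ∀ X : Subgroup A, S ≤ normalizer (X : Set A) → R ≤ X ∨ X ≤ normalizer (Q : Set A)
  gen : Y ⊔ L = ⊤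
  LQ : L ≤ normalizer (Q : Set A)

variable [Finite A] {p : ℕ} [Fact p.Prime] {R Y Q S L : Subgroup A}

theorem Ctx.comm_of_subnormal (c : Ctx p R Y Q S L) {X : Subgroup A} (hX : X.IsSubnormal)
    (hQX : Q ≤ normalizer (X : Set A)) (hXQ : X ≤ normalizer (Q : Set A)) : ⁅X, Q⁆ = ⊥ := by
  have h1 : ⁅X, Q⁆ ≤ X ⊓ Q :=
    le_inf (le_normalizer_iff_commutator_le_left.mp hQX)
      (by rw [commutator_comm]; exact le_normalizer_iff_commutator_le_left.mp hXQ)
  refine le_bot_iff.mp (h1.trans ?_)
  rw [← c.core]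
  refine Layer.subnormal_le_pCore ?_ ((c.pS.to_le c.QS).to_le inf_le_right)
  refine IsSubnormal.trans (K := X) inf_le_left ?_ hX
  exact ((normal_subgroupOf_iff_le_normalizer inf_le_left).mpr
    ((le_inf le_normalizer hXQ).trans inf_normalizer_le_normalizer_inf)).isSubnormal

theorem Ctx.normal_cases_Q (c : Ctx p R Y Q S L) {N : Subgroup A} (hN : N.Normal) :
    Y ≤ N ∨ ⁅N, Q⁆ = ⊥ := by
  have hn : ∀ H : Subgroup A, H ≤ normalizer (N : Set A) := fun H => by
    rw [normalizer_eq_top_iff.mpr hN]; exact le_top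
  rcases c.dich N (hn _) with h | h
  · exact Or.inl (c.Ymin N hN h)
  · exact Or.inr (c.comm_of_subnormal hN.isSubnormal (hn _) h)

theorem Ctx.normal_cases (c : Ctx p R Y Q S L) {N : Subgroup A} (hN : N.Normal) :
    Y ≤ N ∨ ⁅N, Y⁆ = ⊥ := by
  refine (c.normal_cases_Q hN).imp_right fun h => ?_
  haveI := hN
  have hC : (centralizer (N : Set A)).Normal := inferInstance
  have h2 : normalClosure (Q : Set A) ≤ centralizer (N : Set A) :=
    normalClosure_le_normal (commutator_eq_bot_iff_le_centralizer.mp (by rwa [commutator_comm]))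
  have h3 := c.Ymin _ hC (c.RQ.trans h2)
  rw [commutator_comm]
  exact commutator_eq_bot_iff_le_centralizer.mpr h3

theorem Ctx.R_le_iff (c : Ctx p R Y Q S L) {N : Subgroup A} (hN : N.Normal) : R ≤ N ↔ Y ≤ N :=
  ⟨c.Ymin N hN, c.RY.trans⟩

theorem Ctx.Y_not_comm_Q (c : Ctx p R Y Q S L) : ⁅Y, Q⁆ ≠ ⊥ := fun h =>
  c.RnQ ((c.RY.trans (commutator_eq_bot_iff_le_centralizer.mp h)).trans (centralizer_le_normalizer _))

theorem Ctx.not_comm_self (c : Ctx p R Y Q S L) (h : ⁅Y, Y⁆ = Y) : ¬ Y ≤ centralizer (Y : Set A) :=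
  fun hc => c.Y_not_comm_Q (by
    rw [show Y = ⊥ from h.symm.trans (commutator_eq_bot_iff_le_centralizer.mpr hc)]
    exact commutator_bot_left _)

theorem Ctx.perfect_or (c : Ctx p R Y Q S L) : ⁅Y, Y⁆ = Y ∨ ⁅⁅Y, Y⁆, Y⁆ = ⊥ := by
  haveI := c.normalY
  rcases c.normal_cases (N := ⁅Y, Y⁆) inferInstance with h | h
  · exact Or.inl (le_antisymm (commutator_le_self Y) h)
  · exact Or.inr h

/-- A subgroup of `A` inside `Y`, normal in `A`, is `Y` or is central in `Y`. -/
theorem Ctx.char_cases (c : Ctx p R Y Q S L) (K : Subgroup Y) [K.Characteristic] :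
    K = ⊤ ∨ K ≤ center Y := by
  haveI := c.normalY
  rcases c.normal_cases (N := K.map Y.subtype) inferInstance with h | h
  · refine Or.inl (eq_top_iff.mpr fun y _ => ?_)
    obtain ⟨k, hk, e⟩ := h y.2
    rwa [← Subtype.ext (a1 := k) (a2 := y) e]
  · refine Or.inr fun k hk => mem_center_iff.mpr fun y => Subtype.ext ?_
    exact mem_centralizer_iff.mp (commutator_eq_bot_iff_le_centralizer.mp h (mem_map_of_mem _ hk))
      y y.2

theorem Ctx.layer_top (c : Ctx p R Y Q S L) (h : ⁅Y, Y⁆ = Y) : Cfsg.layer Y = ⊤ := by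
  have hperf : commutator Y = ⊤ := by
    apply map_injective Y.subtype_injective
    rw [map_subtype_commutator, h, ← MonoidHom.range_eq_map, range_subtype]
  have hnc : (center Y) ≠ ⊤ := fun e => c.not_comm_self h fun y hy => by
    rw [mem_centralizer_iff]
    intro x hx
    have : (⟨y, hy⟩ : Y) ∈ center Y := e ▸ mem_top _
    exact congrArg Subtype.val (mem_center_iff.mp this ⟨x, hx⟩)
  refine (c.char_cases (Cfsg.layer Y)).resolve_right fun hle => ?_
  have hl : Cfsg.layer Y = ⊥ := by
    rw [← Layer.layer_perfect]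
    exact commutator_eq_bot_iff_le_centralizer.mpr fun x hx =>
      mem_centralizer_iff.mpr fun y _ => mem_center_iff.mp (hle hx) y
  have hF : Cfsg.fittingSubgroup Y ≠ ⊤ := fun e => by
    haveI : Group.IsNilpotent Y :=
      Group.isNilpotent_top.mp (e ▸ Core.fittingSubgroup_isNilpotent)
    haveI : Group.IsPerfect Y := Group.isPerfect_def.mpr hperf
    haveI : Nontrivial Y := (nontrivial_iff_ne_bot Y).mpr fun e0 => c.Y_not_comm_Q (by rw [e0, commutator_bot_left])
    exact Group.IsPerfect.not_isSolvable Y inferInstance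
  haveI : (Cfsg.fittingSubgroup Y).Characteristic :=
    characteristic_iff_map_eq.mpr fun e => Core.map_fittingSubgroup e
  have hFc := (c.char_cases (Cfsg.fittingSubgroup Y)).resolve_left hF
  have h2 := (Layer.layer_eq_bot_iff_centralizer_fitting.mp hl)
  refine hF (eq_top_iff.mpr fun y _ => h2 ?_)
  exact mem_centralizer_iff.mpr fun x hx => (mem_center_iff.mp (hFc hx) y).symm

theorem Ctx.nilpotent_of_not_perfect (c : Ctx p R Y Q S L) (h : ⁅⁅Y, Y⁆, Y⁆ = ⊥) :
    ∃ _ : Group.IsNilpotent Y, Group.nilpotencyClass Y ≤ 2 := by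
  have hle : (Abelianization.of : Y →* Abelianization Y).ker ≤ center Y := by
    rw [Abelianization.ker_of]
    intro k hk
    refine mem_center_iff.mpr fun y => Subtype.ext ?_
    have hk' : (k : A) ∈ ⁅Y, Y⁆ := map_subtype_commutator Y ▸ mem_map_of_mem _ hk
    exact mem_centralizer_iff.mp (commutator_eq_bot_iff_le_centralizer.mp h hk') y y.2
  haveI : Group.IsNilpotent Y := Subgroup.isNilpotent_of_ker_le_center _ hle
  refine ⟨inferInstance, (Group.nilpotencyClass_le_of_ker_le_center _ hle).trans ?_⟩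
  have := CommGroup.nilpotencyClass_le_one (G := Abelianization Y)
  omega

/-- The residual lies in the generalized Fitting subgroup. -/
theorem Ctx.le_generalizedFitting (c : Ctx p R Y Q S L) : Y ≤ Cfsg.generalizedFittingSubgroup A := by
  haveI := c.normalY
  rcases c.perfect_or with h | h
  · refine le_trans ?_ Layer.layer_le_generalizedFitting
    calc Y = (Cfsg.layer Y).map Y.subtype := by
          rw [c.layer_top h, ← MonoidHom.range_eq_map, range_subtype]
      _ ≤ _ := Layer.map_layer_subnormal_le c.normalY.isSubnormal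
  · obtain ⟨hn, -⟩ := c.nilpotent_of_not_perfect h
    exact (Core.le_fittingSubgroup hn).trans Layer.fitting_le_generalizedFitting

theorem Ctx.perfect_iff_not_solvable (c : Ctx p R Y Q S L) : ⁅Y, Y⁆ = Y ↔ ¬ Group.IsSolvable Y := by
  constructor
  · intro h hs
    haveI : Nontrivial Y := (nontrivial_iff_ne_bot Y).mpr fun e0 => c.Y_not_comm_Q (by rw [e0, commutator_bot_left])
    haveI : Group.IsPerfect Y := Subgroup.isPerfect_iff.mpr h
    exact Group.IsPerfect.not_isSolvable Y hs
  · intro h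
    refine c.perfect_or.resolve_right fun h' => h ?_
    obtain ⟨hn, -⟩ := c.nilpotent_of_not_perfect h'
    exact inferInstance

end Cfsg.Agent.IsolatedPMin
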