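import Mathlib
import Cfsg.Agent.IsolatedPMin.Abstract

/-!
The nonsolvable case: the components of the normal closure form one orbit.
-/

set_option autoImplicit false
set_option linter.style.haveILetI false

namespace Cfsg.Agent.IsolatedPMin

open Subgroup

variable {A : Type*} [Group A]

theorem map_conj_map_conj (K : Subgroup A) (a b : A) :
    (K.map (MulAut.conj b).toMonoidHom).map (MulAut.conj a).toMonoidHom =
      K.map (MulAut.conj (a * b)).toMonoidHom := by
  rw [map_map]
  congr 1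
  ext x
  simp [mul_assoc]

theorem map_conj_eq_self {K : Subgroup A} {a : A} (h : a ∈ normalizer (K : Set A)) :
    K.map (MulAut.conj a).toMonoidHom = K :=
  mem_normalizer_iff_map_conj_eq.mp h

variable [Finite A] {p : ℕ} [Fact p.Prime] {R Y Q S L : Subgroup A}

/-- The conjugates of `K` under `S`. -/
def orb (S K : Subgroup A) : Set (Subgroup A) :=
  Set.range fun s : S => K.map (MulAut.conj (s : A)).toMonoidHom

theorem mem_orb_self (S K : Subgroup A) : K ∈ orb S K :=
  ⟨1, map_conj_eq_self (one_mem _)⟩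

theorem orb_conj {S K M : Subgroup A} {s : A} (hs : s ∈ S) (hM : M ∈ orb S K) :
    M.map (MulAut.conj s).toMonoidHom ∈ orb S K := by
  obtain ⟨t, rfl⟩ := hM
  exact ⟨⟨s, hs⟩ * t, (map_conj_map_conj K s t).symm⟩

theorem le_normalizer_sSup_orb (S K : Subgroup A) :
    S ≤ normalizer ((sSup (orb S K) : Subgroup A) : Set A) := fun s hs =>
  Layer.mem_normalizer_of_conj_mem fun x hx => by
    refine (?_ : sSup (orb S K) ≤ (sSup (orb S K)).comap (MulAut.conj s).toMonoidHom) hx
    refine sSup_le fun M hM => ?_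
    rw [← map_le_iff_le_comap]
    exact le_sSup (orb_conj hs hM)

theorem le_normalizer_conj_Q {Q M : Subgroup A} {g : A} (hg : g ∈ normalizer (Q : Set A)) :
    ⁅M.map (MulAut.conj g).toMonoidHom, Q⁆ = (⁅M, Q⁆).map (MulAut.conj g).toMonoidHom := by
  rw [map_commutator, map_conj_eq_self hg]

theorem Ctx.orbit (c : Ctx p R Y Q S L) (h : ⁅Y, Y⁆ = Y) {K K' : Subgroup A}
    (hK : Cfsg.IsComponent K) (hKY : K ≤ Y) (hK' : Cfsg.IsComponent K') (hK'Y : K' ≤ Y) :
    K' ∈ orb S K := by
  classical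
  haveI := c.normalY
  set Comp := {M : Subgroup A | Cfsg.IsComponent M ∧ M ≤ Y} with hComp
  have hYeq : Y = sSup Comp := by
    rw [hComp, ← Layer.map_layer_subnormal c.normalY.isSubnormal, c.layer_top h,
      ← MonoidHom.range_eq_map, range_subtype]
  have hconj : ∀ {M : Subgroup A} (g : A), M ∈ Comp → M.map (MulAut.conj g).toMonoidHom ∈ Comp := by
    rintro M g ⟨h1, h2⟩
    refine ⟨Layer.isComponent_map_conj h1 g, ?_⟩
    rintro _ ⟨x, hx, rfl⟩
    exact c.normalY.conj_mem x (h2 hx) g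
  have horb : ∀ {M : Subgroup A}, M ∈ Comp → orb S M ⊆ Comp := by
    rintro M hM _ ⟨s, rfl⟩
    exact hconj _ hM
  -- `R` lies in the orbit product of each component moved by `Q`
  have hmoved : ∀ M ∈ Comp, ⁅M, Q⁆ ≠ ⊥ → R ≤ sSup (orb S M) := by
    intro M hM hne
    refine (c.dich _ (le_normalizer_sSup_orb S M)).resolve_right fun hn => hne ?_
    have hc := c.comm_of_subnormal (Layer.isSubnormal_sSup fun N hN => (horb hM hN).1.1)
      (c.QS.trans (le_normalizer_sSup_orb S M)) hn
    exact le_bot_iff.mp ((commutator_mono (le_sSup (mem_orb_self S M)) le_rfl).trans hc.le)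
  have hcomm : ∀ {M N : Subgroup A}, M ∈ Comp → N ∈ Comp → N ∉ orb S M →
      ⁅N, sSup (orb S M)⁆ = ⊥ := fun {M N} hM hN hne =>
    Layer.commutator_sSup_eq_bot fun O hO =>
      Layer.components_commute hN.1 (horb hM hO).1 fun e => hne (e ▸ hO)
  have hone : ∀ M ∈ Comp, ∀ N ∈ Comp, ⁅M, Q⁆ ≠ ⊥ → ⁅N, Q⁆ ≠ ⊥ → N ∈ orb S M := by
    intro M hM N hN hMQ hNQ
    by_contra hne
    have hRY : R ≤ centralizer (Y : Set A) := by
      rw [le_centralizer_iff, hYeq]
      refine sSup_le fun O hO => ?_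
      rw [← commutator_eq_bot_iff_le_centralizer]
      by_cases hOM : O ∈ orb S M
      · refine le_bot_iff.mp ((commutator_mono le_rfl (hmoved N hN hNQ)).trans (le_of_eq (hcomm hN hO ?_)))
        rintro ⟨s, hs⟩
        obtain ⟨t, ht⟩ := hOM
        refine hne ⟨s⁻¹ * t, ?_⟩
        show M.map (MulAut.conj ((s⁻¹ * t : S) : A)).toMonoidHom = N
        rw [Subgroup.coe_mul, ← map_conj_map_conj, show M.map (MulAut.conj (t : A)).toMonoidHom = O from ht,
          ← show N.map (MulAut.conj (s : A)).toMonoidHom = O from hs, map_conj_map_conj]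
        exact map_conj_eq_self (by simp)
      · exact le_bot_iff.mp ((commutator_mono le_rfl (hmoved M hM hMQ)).trans (le_of_eq (hcomm hM hO hOM)))
    exact c.not_comm_self h (c.Ymin _ inferInstance hRY)
  -- some component is moved
  obtain ⟨M, hM, hMQ⟩ : ∃ M ∈ Comp, ⁅M, Q⁆ ≠ ⊥ := by
    by_contra! hall
    refine c.Y_not_comm_Q ?_
    rw [hYeq, commutator_comm]
    exact Layer.commutator_sSup_eq_bot fun M hM => by rw [commutator_comm]; exact hall M hM
  have hnormal : (sSup (orb S M)).Normal := by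
    rw [← normalizer_eq_top_iff, eq_top_iff, ← c.gen]
    refine sup_le ?_ fun l hl => Layer.mem_normalizer_of_conj_mem fun x hx => ?_
    · conv_lhs => rw [hYeq]
      exact sSup_le fun N hN => Layer.le_normalizer_sSup fun O hO =>
        Layer.component_le_normalizer_component hN.1 (horb hM hO).1
    · refine (?_ : sSup (orb S M) ≤ (sSup (orb S M)).comap (MulAut.conj l).toMonoidHom) hx
      refine sSup_le fun O hO => map_le_iff_le_comap.mp (le_sSup (hone M hM _ (hconj l (horb hM hO)) hMQ ?_))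
      obtain ⟨s, rfl⟩ := hO
      rw [le_normalizer_conj_Q (c.LQ hl), le_normalizer_conj_Q (c.SQ s.2), map_conj_map_conj]
      intro e
      rw [Subgroup.map_eq_bot_iff] at e
      exact hMQ (le_bot_iff.mp (e.trans (le_of_eq ((MonoidHom.ker_eq_bot_iff _).mpr (MulAut.conj _).injective))))
  have hYO : Y ≤ sSup (orb S M) := c.Ymin _ hnormal (hmoved M hM hMQ)
  have hall : ∀ N ∈ Comp, N ∈ orb S M := fun N hN => by
    by_contra hne
    exact Layer.qs_subgroup_not_abelian hN.1.2
      (le_bot_iff.mp ((commutator_mono le_rfl (hN.2.trans hYO)).trans (hcomm hM hN hne).le))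
  obtain ⟨s, hs⟩ := hall K ⟨hK, hKY⟩
  obtain ⟨t, ht⟩ := hall K' ⟨hK', hK'Y⟩
  refine ⟨t * s⁻¹, ?_⟩
  show K.map (MulAut.conj ((t * s⁻¹ : S) : A)).toMonoidHom = K'
  rw [← show M.map (MulAut.conj (s : A)).toMonoidHom = K from hs,
    ← show M.map (MulAut.conj (t : A)).toMonoidHom = K' from ht, map_conj_map_conj, ← Subgroup.coe_mul,
    inv_mul_cancel_right]

end Cfsg.Agent.IsolatedPMin
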