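import Mathlib
import Cfsg.Agent.IsolatedPMin.Abstract
import Cfsg.Agent.Coprime.Basic
import Cfsg.Agent.LocalStructure.ThreeSubgroup
import Cfsg.Agent.S4037

/-!
The nonsolvable case: `p` divides the order of the normal closure, by Kazarin's theorem on
classes of prime power size.
-/

set_option autoImplicit false
set_option linter.style.haveILetI false

namespace Cfsg.Agent.IsolatedPMin

open Subgroup
open scoped commutatorElement

variable {A : Type*} [Group A] [Finite A] {p : ℕ} [Fact p.Prime]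

theorem ncard_carrier_eq_index {G : Type*} [Group G] [Finite G] (z : G) :
    (ConjClasses.mk z).carrier.ncard = (centralizer ({z} : Set G)).index := by
  have h1 := MulAction.index_stabilizer (ConjAct G) z
  rw [ConjAct.orbit_eq_carrier_conjClasses] at h1
  refine Nat.eq_of_mul_eq_mul_right (Nat.card_pos (α := centralizer ({z} : Set G))) ?_
  rw [← h1, nat_card_centralizer_nat_card_stabilizer z, mul_comm]
  refine (card_mul_index _).trans ?_
  rw [← nat_card_centralizer_nat_card_stabilizer z, index_mul_card]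
  rfl

/-- A normal subgroup of a `p`-group that is not inside another has an element outside it whose
commutators lie inside. -/
theorem exists_central_above {S Q C : Subgroup A} (hS : IsPGroup p S) (hQS : Q ≤ S)
    (hSQ : S ≤ normalizer (Q : Set A)) (h : ¬ Q ≤ C) :
    ∃ a ∈ Q, a ∉ C ∧ ∀ s ∈ S, ⁅a, s⁆ ∈ C := by
  obtain ⟨U, ⟨hUQ, hSU, hUC⟩, hmin⟩ := Set.exists_min_image
    {U : Subgroup A | U ≤ Q ∧ S ≤ normalizer (U : Set A) ∧ ¬ U ≤ C} (fun U => Nat.card U)
    (Set.toFinite _) ⟨Q, le_rfl, hSQ, h⟩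
  have hne : U ≠ ⊥ := fun e => hUC (e ▸ bot_le)
  have hlt := Coprime.commutator_lt_of_isPGroup hS (hS.to_le (hUQ.trans hQS)) hSU hne
  have hcomm : ⁅U, S⁆ ≤ C := by
    by_contra hc
    exact (Nat.lt_irrefl _) (lt_of_le_of_lt (hmin _ ⟨hlt.le.trans hUQ, normalizer_commutator_ge_right U S, hc⟩)
      (lt_of_le_of_ne (Nat.le_of_dvd Nat.card_pos (card_dvd_of_le hlt.le))
        fun e => hlt.ne (eq_of_le_of_card_ge hlt.le e.ge)))
  obtain ⟨a, ha, haC⟩ := SetLike.not_le_iff_exists.mp hUC
  exact ⟨a, hUQ ha, haC, fun s hs => hcomm (commutator_mem_commutator ha hs)⟩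

variable {R Y Q S L : Subgroup A}

theorem Ctx.dvd_card (c : Ctx p R Y Q S L) (h : ⁅Y, Y⁆ = Y) : p ∣ Nat.card Y := by
  classical
  by_contra hdvd
  haveI := c.normalY
  have hp : p.Prime := Fact.out
  have hcopS : (Nat.card S).Coprime (Nat.card Y) := by
    obtain ⟨n, hn⟩ := IsPGroup.iff_card.mp c.pS
    rw [hn]
    exact Nat.Coprime.pow_left n (hp.coprime_iff_not_dvd.mpr hdvd)
  have hcopQ := hcopS.coprime_dvd_left (card_dvd_of_le c.QS)
  have hSY : S ≤ normalizer (Y : Set A) := by rw [normalizer_eq_top_iff.mpr c.normalY]; exact le_top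
  have hS : Group.IsSolvable S := by haveI := c.pS.isNilpotent; infer_instance
  set C : Subgroup A := Y ⊓ centralizer (Q : Set A) with hC
  have hR : R ≠ ⊥ := fun e => c.RnQ (e ▸ bot_le)
  -- the index of the fixed points is a power of one prime
  have hsyl : ∀ t : ℕ, t.Prime → t ∣ C.relIndex Y →
      ∃ T : Subgroup A, IsPGroup t T ∧ R ≤ T := by
    intro t ht htd
    haveI := Fact.mk ht
    obtain ⟨T, hT⟩ := Coprime.exists_invariant_sylow hSY hcopS (Or.inl hS) t
    set TA := (T : Subgroup Y).map Y.subtype with hTA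
    refine ⟨TA, T.isPGroup'.map _, (c.dich TA hT).resolve_right fun hTQ => ?_⟩
    have h1 : ⁅TA, Q⁆ ≤ Y ⊓ Q := le_inf
      ((commutator_mono (map_subtype_le _) le_rfl).trans
        (le_normalizer_iff_commutator_le_left.mp (c.QS.trans hSY)))
      (by rw [commutator_comm]; exact le_normalizer_iff_commutator_le_left.mp hTQ)
    rw [inf_eq_bot_of_coprime hcopQ.symm, le_bot_iff] at h1
    have hTC : (T : Subgroup Y) ≤ C.subgroupOf Y := fun y hy =>
      ⟨y.2, commutator_eq_bot_iff_le_centralizer.mp h1 (mem_map_of_mem _ hy)⟩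
    exact T.not_dvd_index (htd.trans (index_dvd_of_le hTC))
  obtain ⟨r, k, hr, hk⟩ : ∃ r k : ℕ, r.Prime ∧ C.relIndex Y = r ^ k := by
    by_cases h1 : C.relIndex Y = 1
    · exact ⟨p, 0, hp, by rw [h1, pow_zero]⟩
    · obtain ⟨r, hr, hrd⟩ := Nat.exists_prime_and_dvd h1
      refine ⟨r, _, hr, Nat.eq_prime_pow_of_unique_prime_dvd (index_ne_zero_of_finite (H := C.subgroupOf Y)) fun {d} hd hdd => ?_⟩
      obtain ⟨T, hT, hRT⟩ := hsyl r hr hrd
      obtain ⟨T', hT', hRT'⟩ := hsyl d hd hdd
      by_contra hne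
      haveI := Fact.mk hr
      haveI := Fact.mk hd
      obtain ⟨i, hi⟩ := IsPGroup.iff_card.mp (hT.to_le hRT)
      obtain ⟨j, hj⟩ := IsPGroup.iff_card.mp (hT'.to_le hRT')
      refine hR (eq_bot_of_card_eq R (Nat.dvd_one.mp ?_))
      have hco : Nat.Coprime (r ^ i) (d ^ j) := Nat.Coprime.pow i j ((Nat.coprime_primes hr hd).mpr (Ne.symm hne))
      have := Nat.dvd_gcd hi.dvd hj.dvd
      rwa [hco.gcd_eq_one] at this
  -- the element
  set Z : Subgroup A := centralizer (Y : Set A) with hZ
  have hQC : ¬ Q ≤ Z := fun hle => c.Y_not_comm_Q (by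
    rw [commutator_comm]; exact commutator_eq_bot_iff_le_centralizer.mpr hle)
  obtain ⟨a, haQ, haZ, haS⟩ := exists_central_above (C := Z) c.pS c.QS c.SQ hQC
  set M : Subgroup A := Y ⊔ S with hM
  have hYM : Y ≤ M := le_sup_left
  have haM : a ∈ M := mem_sup_right (c.QS haQ)
  let g := QuotientGroup.mk' (Z.subgroupOf M)
  set x := g ⟨a, haM⟩ with hx
  -- the class has prime power size
  have hD : (C ⊔ S).subgroupOf M ≤ (centralizer ({x} : Set _)).comap g := by
    have key : ∀ y : M, ⁅a, (y : A)⁆ ∈ Z → y ∈ (centralizer ({x} : Set _)).comap g := fun y hy => by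
      have h1 : g ⁅(⟨a, haM⟩ : M), y⁆ = 1 := (QuotientGroup.eq_one_iff _).mpr hy
      rw [map_commutatorElement, commutatorElement_eq_one_iff_mul_comm] at h1
      exact mem_centralizer_singleton_iff.mpr h1.symm
    have h2 : C ⊔ S ≤ ((centralizer ({x} : Set _)).comap g).map M.subtype := by
      refine sup_le (fun y hy => ⟨⟨y, hYM hy.1⟩, key _ ?_, rfl⟩)
        (fun y hy => ⟨⟨y, mem_sup_right hy⟩, key _ (haS y hy), rfl⟩)
      have h3 : a * y = y * a := mem_centralizer_iff.mp hy.2 a haQ
      rw [show ⁅a, y⁆ = 1 from commutatorElement_eq_one_iff_mul_comm.mpr h3]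
      exact Z.one_mem
    intro y hy
    obtain ⟨z, hz, e⟩ := h2 hy
    rwa [← Subtype.ext (a1 := z) (a2 := y) e]
  have hcard : (C ⊔ S).relIndex M = C.relIndex Y := by
    have hCY : C ≤ Y := inf_le_left
    have hSC : S ≤ normalizer (C : Set A) :=
      (le_inf hSY ((c.SQ).trans ((normal_subgroupOf_iff_le_normalizer (centralizer_le_normalizer _)).mp
        (normal_subgroupOf_centralizer_normalizer _)))).trans inf_normalizer_le_normalizer_inf
    have e1 : Nat.card (C ⊔ S : Subgroup A) = Nat.card C * Nat.card S :=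
      Coprime.card_sup_eq_mul hSC (inf_eq_bot_of_coprime (hcopS.symm.coprime_dvd_left (card_dvd_of_le hCY)))
    have e2 : Nat.card M = Nat.card Y * Nat.card S :=
      Coprime.card_sup_eq_mul hSY (inf_eq_bot_of_coprime hcopS.symm)
    have rmc : ∀ {H K : Subgroup A}, H ≤ K → Nat.card H * H.relIndex K = Nat.card K := fun {H K} hHK => by
      rw [← Nat.card_congr (subgroupOfEquivOfLe hHK).toEquiv]; exact (H.subgroupOf K).card_mul_index
    have e3 := rmc (sup_le_sup_right hCY S : C ⊔ S ≤ M)
    have e4 := rmc hCY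
    rw [e1, e2, ← e4] at e3
    exact Nat.eq_of_mul_eq_mul_left (Nat.mul_pos Nat.card_pos Nat.card_pos)
      (by rw [e3]; ring)
  obtain ⟨j, -, hj⟩ := (Nat.dvd_prime_pow hr).mp (show (centralizer ({x} : Set _)).index ∣ r ^ k by
    rw [← hk, ← hcard, ← index_comap_of_surjective _ (QuotientGroup.mk'_surjective (Z.subgroupOf M))]
    exact index_dvd_of_le hD)
  have hsolv := S4037.result x hr j ((ncard_carrier_eq_index x).trans hj)
  -- its commutators with `Y` form a solvable subnormal subgroup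
  set N := normalClosure ({x} : Set (M ⧸ Z.subgroupOf M)) with hN
  set N' : Subgroup A := (N.comap g).map M.subtype ⊓ Y with hN'
  have hN'sn : N'.IsSubnormal := by
    refine IsSubnormal.trans (K := Y) inf_le_right ?_ c.normalY.isSubnormal
    refine ((normal_subgroupOf_iff_le_normalizer inf_le_right).mpr ?_).isSubnormal
    refine (le_inf ?_ le_normalizer).trans inf_normalizer_le_normalizer_inf
    refine hYM.trans ?_
    intro m hm
    exact le_normalizer_map M.subtype ⟨⟨m, hm⟩, (normalizer_eq_top (H := N.comap g)).ge (mem_top _), rfl⟩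
  have hN'solv : Group.IsSolvable N' := by
    let φ : N' →* N :=
      { toFun := fun y => ⟨g ⟨(y : A), hYM y.2.2⟩, by
          obtain ⟨z, hz, e⟩ := y.2.1
          rwa [← Subtype.ext (a1 := z) (a2 := ⟨(y : A), hYM y.2.2⟩) e]⟩
        map_one' := Subtype.ext (map_one g)
        map_mul' := fun u v => Subtype.ext (map_mul g ⟨(u : A), hYM u.2.2⟩ ⟨(v : A), hYM v.2.2⟩) }
    haveI : Group.IsSolvable φ.ker := by
      refine Group.isSolvable_of_comm fun u v => ?_
      refine Subtype.ext (Subtype.ext ?_)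
      have hu : ((u.1 : N') : A) ∈ Z := (QuotientGroup.eq_one_iff (⟨((u.1 : N') : A), hYM u.1.2.2⟩ : M)).mp
        (congrArg Subtype.val (MonoidHom.mem_ker.mp u.2))
      exact (mem_centralizer_iff.mp hu _ v.1.2.2).symm
    haveI : Group.IsSolvable N := hsolv
    exact Group.isSolvable_of_ker_le_range φ.ker.subtype φ (range_subtype _).ge
  have hN'Z : N' ≤ Z := by
    have h1 := Layer.layer_commute_of_subnormal_solvable hN'solv hN'sn
    have h2 : Y ≤ Cfsg.layer A := by
      calc Y = (Cfsg.layer Y).map Y.subtype := by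
            rw [c.layer_top h, ← MonoidHom.range_eq_map, range_subtype]
        _ ≤ _ := Layer.map_layer_subnormal_le c.normalY.isSubnormal
    refine commutator_eq_bot_iff_le_centralizer.mp (le_bot_iff.mp ?_)
    rw [commutator_comm]
    exact (commutator_mono h2 le_rfl).trans h1.le
  -- so it centralises the perfect group `Y`
  have hcomm : ⁅Y, zpowers a⁆ ≤ Z := by
    refine (le_trans ?_ hN'Z)
    rw [commutator_le]
    intro y hy b hb
    obtain ⟨i, rfl⟩ := hb
    refine ⟨⟨⁅(⟨y, hYM hy⟩ : M), (⟨a, haM⟩ : M) ^ i⁆, ?_, rfl⟩, ?_⟩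
    · show g _ ∈ N
      rw [map_commutatorElement, map_zpow]
      have hxN : x ∈ N := subset_normalClosure rfl
      have hxi : (g ⟨a, haM⟩) ^ i ∈ N := N.zpow_mem hxN i
      rw [commutatorElement_def]
      exact N.mul_mem (normalClosure_normal.conj_mem _ hxi _) (N.inv_mem hxi)
    · have hai : a ^ i ∈ normalizer (Y : Set A) := by rw [normalizer_eq_top_iff.mpr c.normalY]; exact mem_top _
      exact le_normalizer_iff_commutator_le_left.mp
        (zpowers_le.mpr hai) (commutator_mem_commutator hy (mem_zpowers _))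
  have h1 : ⁅⁅zpowers a, Y⁆, Y⁆ = ⊥ := by
    rw [commutator_comm (zpowers a) Y, commutator_eq_bot_iff_le_centralizer]; exact hcomm
  have h2 : ⁅⁅Y, zpowers a⁆, Y⁆ = ⊥ := by rw [commutator_eq_bot_iff_le_centralizer]; exact hcomm
  have h3 := commutator_commutator_eq_bot_of_rotate h2 h1
  rw [h] at h3
  refine haZ (commutator_eq_bot_iff_le_centralizer.mp ?_ (mem_zpowers a))
  rw [commutator_comm]; exact h3

end Cfsg.Agent.IsolatedPMin
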