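import Mathlib
import Cfsg.Agent.IsolatedPMin.Abstract
import Cfsg.Agent.LocalStructure.PResidual
import Cfsg.Agent.S2790
import Cfsg.Agent.S2905

/-!
An isolated `p`-minimal subgroup: generation, dichotomy, and passage to `G / O_p(G)`.
-/

set_option autoImplicit false
set_option linter.style.haveILetI false

namespace Cfsg.Agent.IsolatedPMin

open Subgroup LocalStructure

variable {G : Type*} [Group G] [Finite G] {p : ℕ} [Fact p.Prime]

/-- Generation by the normalizer of `S` and the `p`-minimal subgroups over `S`, inside `K`. -/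
theorem le_of_generators (S : Sylow p G) {J K : Subgroup G} (hSK : (S : Subgroup G) ≤ K)
    (hN : normalizer ((S : Subgroup G) : Set G) ⊓ K ≤ J)
    (hfam : ∀ P' : Subgroup G, (S : Subgroup G) ≤ P' → P' ≤ K → Cfsg.IsPMinimal p ↥P' → P' ≤ J) :
    K ≤ J := by
  set SK := S.subtype hSK with hSKdef
  have hS : (SK : Subgroup K) = (S : Subgroup G).subgroupOf K := Sylow.coe_subtype _ _
  have hNK : normalizer ((SK : Subgroup K) : Set K) ≤ J.subgroupOf K := fun n hn => hN ⟨by
    refine Layer.mem_normalizer_of_conj_mem fun x hx => ?_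
    have := (mem_normalizer_iff.mp hn ⟨x, hSK hx⟩).mp (by rw [hS]; exact hx)
    rw [hS] at this
    exact this, n.2⟩
  have hSJ : (SK : Subgroup K) ≤ J.subgroupOf K := le_normalizer.trans hNK
  have hJ := S2790.pec_le_join SK (J.subgroupOf K) hSJ (fun P' h1 h2 => by
    rw [subgroupOf, ← map_le_iff_le_comap]
    refine hfam _ ?_ (map_subtype_le _) (S2790.pmin_congr (P'.equivMapOfInjective _ K.subtype_injective) h2)
    intro s hs
    exact ⟨⟨s, hSK hs⟩, h1 (by rw [hS]; exact hs), rfl⟩) (hNK.trans le_normalizer) ⊤ le_top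
  intro k hk
  exact (sup_le hJ hNK) (S2790.le_pec_sup_normalizer SK (M := ⊤) le_top (mem_top (⟨k, hk⟩ : K)))

theorem le_comap_sup_self {X S : Subgroup G} (hSX : S ≤ normalizer (X : Set G)) (hS : IsPGroup p S) :
    resOf p (X ⊔ S) ≤ X := by
  rw [resOf_le_iff]
  intro g hg hcop
  obtain ⟨x, hx, s, hs, rfl⟩ := (Coprime.mem_sup_of_le_normalizer hSX).mp hg
  haveI : (X.subgroupOf (normalizer (X : Set G))).Normal := normal_subgroupOf_of_le_normalizer le_rfl
  let f := QuotientGroup.mk' (X.subgroupOf (normalizer (X : Set G)))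
  let y : normalizer (X : Set G) := ⟨x * s, mul_mem (le_normalizer hx) (hSX hs)⟩
  have hy : f y = f ⟨s, hSX hs⟩ := by
    have : y = ⟨x, le_normalizer hx⟩ * ⟨s, hSX hs⟩ := rfl
    rw [this, map_mul, show f ⟨x, le_normalizer hx⟩ = 1 from (QuotientGroup.eq_one_iff _).mpr hx, one_mul]
  obtain ⟨n, hn⟩ := hS ⟨s, hs⟩
  have h1 : orderOf (f y) ∣ p ^ n := by
    rw [hy, orderOf_dvd_iff_pow_eq_one, ← map_pow,
      show (⟨s, hSX hs⟩ : normalizer (X : Set G)) ^ p ^ n = 1 from Subtype.ext (by simpa using congrArg Subtype.val hn), map_one]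
  have h2 : orderOf (f y) ∣ orderOf (x * s) := by
    refine (orderOf_map_dvd f y).trans ?_
    rw [← Subgroup.orderOf_coe]
  have h3 : f y = 1 := orderOf_eq_one_iff.mp (Nat.eq_one_of_dvd_coprimes (hcop.pow_right n) h2 h1)
  exact mem_subgroupOf.mp ((QuotientGroup.eq_one_iff y).mp h3)

/-- The hypotheses of the two statements. -/
structure Iso (S : Sylow p G) (P L Y : Subgroup G) : Prop where
  SP : (S : Subgroup G) ≤ P
  Pmin : Cfsg.IsPMinimal p ↥P
  NL : normalizer ((S : Subgroup G) : Set G) ≤ L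
  PL : ∀ P' : Subgroup G, (S : Subgroup G) ≤ P' → Cfsg.IsPMinimal p ↥P' → P' ≠ P → P' ≤ L
  iso : ¬ (Cfsg.pCore p ↥L).map L.subtype ≤ (Cfsg.pCore p ↥P).map P.subtype
  hY : Y = normalClosure ((resOf p P : Subgroup G) : Set G)

variable {S : Sylow p G} {P L Y : Subgroup G}

theorem Iso.mk' (hSP : (S : Subgroup G) ≤ P) (hPmin : Cfsg.IsPMinimal p ↥P)
    (hL : L = normalizer ((S : Subgroup G) : Set G) ⊔
      ⨆ P' : {P' : Subgroup G // (S : Subgroup G) ≤ P' ∧ Cfsg.IsPMinimal p ↥P' ∧ P' ≠ P}, (P' : Subgroup G))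
    (hiso : ¬ (Cfsg.pCore p ↥L).map L.subtype ≤ (Cfsg.pCore p ↥P).map P.subtype)
    (hY : Y = normalClosure (((Cfsg.pResidual p ↥P).map P.subtype : Subgroup G) : Set G)) :
    Iso S P L Y :=
  ⟨hSP, hPmin, hL ▸ le_sup_left, fun P' h1 h2 h3 => hL ▸ le_sup_of_le_right (le_iSup_of_le ⟨P', h1, h2, h3⟩ le_rfl),
    hiso, hY⟩

theorem Iso.SL (h : Iso S P L Y) : (S : Subgroup G) ≤ L := le_normalizer.trans h.NL

theorem Iso.QS (h : Iso S P L Y) : (Cfsg.pCore p ↥L).map L.subtype ≤ (S : Subgroup G) := by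
  rintro _ ⟨x, hx, rfl⟩
  have := Core.pCore_le_sylow (S.subtype h.SL) hx
  rwa [Sylow.coe_subtype] at this

theorem Iso.LQ (_h : Iso S P L Y) : L ≤ normalizer (((Cfsg.pCore p ↥L).map L.subtype : Subgroup G) : Set G) :=
  fun l hl => le_normalizer_map L.subtype
    ⟨⟨l, hl⟩, (normalizer_eq_top (H := Cfsg.pCore p ↥L)).ge (mem_top _), rfl⟩

theorem Iso.P_le_normalizer_res (_h : Iso S P L Y) : P ≤ normalizer ((resOf p P : Subgroup G) : Set G) :=
  fun x hx => le_normalizer_map P.subtype
    ⟨⟨x, hx⟩, (normalizer_eq_top (H := Cfsg.pResidual p ↥P)).ge (mem_top _), rfl⟩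

theorem Iso.P_le_res_sup (h : Iso S P L Y) : P ≤ resOf p P ⊔ (S : Subgroup G) := by
  intro x hx
  have := (Fusion.sylow_sup_pResidual (S.subtype h.SP)).ge (mem_top (⟨x, hx⟩ : P))
  have h2 := mem_map_of_mem P.subtype this
  rw [Subgroup.map_sup, Sylow.coe_subtype, subgroupOf_map_subtype, inf_eq_left.mpr h.SP, sup_comm] at h2
  exact h2

theorem Iso.dich (h : Iso S P L Y) {X : Subgroup G} (hX : (S : Subgroup G) ≤ normalizer (X : Set G)) :
    resOf p P ≤ X ∨ X ≤ L := by
  by_cases hP : P ≤ X ⊔ (S : Subgroup G)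
  · exact Or.inl ((resOf_mono p hP).trans (le_comap_sup_self hX S.isPGroup'))
  · exact Or.inr (le_sup_left.trans (le_of_generators S le_sup_right (inf_le_left.trans h.NL)
      fun P' h1 h2 h3 => h.PL P' h1 h3 fun e => hP (e ▸ h2)))

theorem Iso.Y_normal (h : Iso S P L Y) : Y.Normal := h.hY ▸ normalClosure_normal

theorem Iso.res_le (h : Iso S P L Y) : resOf p P ≤ Y := h.hY ▸ le_normalClosure

theorem Iso.gen (h : Iso S P L Y) : Y ⊔ L = ⊤ := by
  have h1 : P ≤ Y ⊔ L := h.P_le_res_sup.trans (sup_le_sup h.res_le h.SL)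
  refine top_le_iff.mp (le_of_generators S le_top (inf_le_left.trans (h.NL.trans le_sup_right))
    fun P' hS _ hmin => ?_)
  rcases eq_or_ne P' P with rfl | hne
  · exact h1
  · exact (h.PL P' hS hmin hne).trans le_sup_right

theorem Iso.res_le_normalClosure (h : Iso S P L Y) :
    resOf p P ≤ normalClosure (((Cfsg.pCore p ↥L).map L.subtype : Subgroup G) : Set G) := by
  set Q := (Cfsg.pCore p ↥L).map L.subtype with hQ
  set N := normalClosure (Q : Set G) with hN
  obtain ⟨-, M, ⟨hM, hSM⟩, -⟩ := h.Pmin (S.subtype h.SP)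
  obtain ⟨h1, -, h3, -⟩ := S2905.result h.Pmin (S.subtype h.SP) M hM hSM
  haveI : (N.subgroupOf P).Normal := Normal.comap normalClosure_normal P.subtype
  rcases h3 (N.subgroupOf P) inferInstance with hR | hF
  · exact map_le_iff_le_comap.mpr hR
  · refine absurd ?_ h.iso
    intro q hq
    refine ⟨⟨q, h.SP (h.QS hq)⟩, h1 (N.subgroupOf P) (Normal.isSubnormal inferInstance) (hF.trans (normalCore_le M))
      ⟨subset_normalClosure hq, ?_⟩, rfl⟩
    rw [Sylow.coe_subtype]; exact h.QS hq

/-- The context in `G / O_p(G)`. -/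
theorem Iso.ctx (h : Iso S P L Y) [(Cfsg.pCore p G).Normal] :
    Ctx p ((resOf p P).map (QuotientGroup.mk' (Cfsg.pCore p G))) (Y.map (QuotientGroup.mk' (Cfsg.pCore p G)))
      (((Cfsg.pCore p ↥L).map L.subtype).map (QuotientGroup.mk' (Cfsg.pCore p G)))
      ((S : Subgroup G).map (QuotientGroup.mk' (Cfsg.pCore p G))) (L.map (QuotientGroup.mk' (Cfsg.pCore p G))) := by
  set f := QuotientGroup.mk' (Cfsg.pCore p G) with hf
  have hsurj : Function.Surjective f := QuotientGroup.mk'_surjective _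
  set Q := (Cfsg.pCore p ↥L).map L.subtype with hQ
  have hnorm : ∀ {H K : Subgroup G}, H ≤ normalizer (K : Set G) →
      H.map f ≤ normalizer ((K.map f : Subgroup _) : Set (G ⧸ Cfsg.pCore p G)) :=
    fun hH => (map_mono hH).trans (le_normalizer_map f)
  refine
    { core := Core.pCore_quotient_eq_bot
      pS := S.isPGroup'.map f
      QS := map_mono h.QS
      SQ := hnorm (h.SL.trans h.LQ)
      SR := hnorm (h.SP.trans h.P_le_normalizer_res)
      normalY := h.Y_normal.map f hsurj
      RY := map_mono h.res_le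
      Ymin := fun N hN hRN => ?_
      RnQ := fun hle => ?_
      RQ := ?_
      dich := fun X hX => ?_
      gen := by rw [← Subgroup.map_sup, h.gen, Subgroup.map_top_of_surjective f hsurj]
      LQ := hnorm h.LQ }
  · rw [map_le_iff_le_comap, h.hY]
    haveI := hN.comap f
    exact normalClosure_le_normal (map_le_iff_le_comap.mp hRN)
  · refine h.iso ?_
    set W := Q ⊔ Cfsg.pCore p G with hW
    have hWf : W = (Q.map f).comap f := by rw [comap_map_eq, hf, QuotientGroup.ker_mk']
    have hWS : W ≤ (S : Subgroup G) := sup_le h.QS (Core.pCore_le_sylow S)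
    have hPW : P ≤ normalizer (W : Set G) := h.P_le_res_sup.trans (sup_le
      (by rw [hWf]; exact (map_le_iff_le_comap.mp hle).trans (le_normalizer_comap f))
      (by rw [hWf]; exact (map_le_iff_le_comap.mp (hnorm (h.SL.trans h.LQ))).trans (le_normalizer_comap f)))
    haveI := normal_subgroupOf_of_le_normalizer hPW
    have hp : IsPGroup p (W.subgroupOf P) :=
      (S.isPGroup'.to_le hWS).comap_of_injective P.subtype P.subtype_injective
    intro q hq
    exact ⟨⟨q, h.SP (h.QS hq)⟩, Core.le_pCore hp (mem_subgroupOf.mpr (mem_sup_left hq)), rfl⟩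
  · refine (map_mono h.res_le_normalClosure).trans ?_
    rw [map_le_iff_le_comap]
    refine normalClosure_le_normal fun q hq => ?_
    exact subset_normalClosure (mem_map_of_mem f hq)
  · rcases h.dich ((map_le_iff_le_comap.mp hX).trans (le_normalizer_comap f)) with hR | hXL
    · exact Or.inl (map_le_iff_le_comap.mpr hR)
    · refine Or.inr ?_
      rw [← map_comap_eq_self_of_surjective hsurj X]
      exact hnorm (hXL.trans h.LQ)

end Cfsg.Agent.IsolatedPMin
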