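import Mathlib
import Cfsg.Agent.IsolatedPMin.Abstract
import Cfsg.Agent.Core.Frattini
import Cfsg.Agent.Coprime.Basic
import Cfsg.Agent.LocalStructure.ThreeSubgroup
import Cfsg.Agent.Signalizer.KBalanced
import Cfsg.Agent.S0660

/-!
The solvable case: the normal closure is the residual itself, a `t`-group of class at most two.
-/

set_option autoImplicit false
set_option linter.style.haveILetI false

namespace Cfsg.Agent.IsolatedPMin

open Subgroup
open scoped commutatorElement

variable {A : Type*} [Group A] [Finite A] {p : ℕ} [Fact p.Prime] {R Y Q S L : Subgroup A}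

theorem Ctx.exists_prime (c : Ctx p R Y Q S L) (h : ⁅⁅Y, Y⁆, Y⁆ = ⊥) :
    ∃ t : ℕ, t.Prime ∧ t ≠ p ∧ IsPGroup t Y := by
  haveI := c.normalY
  obtain ⟨hn, -⟩ := c.nilpotent_of_not_perfect h
  obtain ⟨t, ht⟩ : ∃ t : Nat.Primes, ⁅(Cfsg.pCore (t : ℕ) Y).map Y.subtype, Q⁆ ≠ ⊥ := by
    by_contra! hall
    refine c.Y_not_comm_Q (commutator_eq_bot_iff_le_centralizer.mpr ?_)
    have h1 : (⊤ : Subgroup Y) = ⨆ t : Nat.Primes, Cfsg.pCore (t : ℕ) Y := by
      rw [← Core.fittingSubgroup_eq_iSup_pCore, Core.fittingSubgroup_eq_top]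
    calc Y = (⊤ : Subgroup Y).map Y.subtype := by rw [← MonoidHom.range_eq_map, range_subtype]
      _ ≤ _ := by
        rw [h1, Subgroup.map_iSup]
        exact iSup_le fun t => commutator_eq_bot_iff_le_centralizer.mp (hall t)
  haveI := Fact.mk t.2
  have hY : Y ≤ (Cfsg.pCore (t : ℕ) Y).map Y.subtype :=
    (c.normal_cases_Q inferInstance).resolve_right ht
  have hp : IsPGroup (t : ℕ) Y := (Core.pCore_isPGroup.map _).to_le hY
  refine ⟨t, t.2, fun e => c.Y_not_comm_Q ?_, hp⟩
  have : Y = ⊥ := le_bot_iff.mp (c.core ▸ Layer.subnormal_le_pCore c.normalY.isSubnormal (e ▸ hp))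
  rw [this]; exact commutator_bot_left _

theorem Ctx.commutator_Q_eq (c : Ctx p R Y Q S L) (hcop : (Nat.card Q).Coprime (Nat.card Y))
    (hs : Group.IsSolvable Y) : ⁅Y, Q⁆ = Y := by
  haveI := c.normalY
  have hQY : Q ≤ normalizer (Y : Set A) := by rw [normalizer_eq_top_iff.mpr c.normalY]; exact le_top
  have hn : (⁅Y, Q⁆).Normal := by
    rw [← normalizer_eq_top_iff, eq_top_iff, ← c.gen]
    refine sup_le (normalizer_commutator_ge_left Y Q)
      (LocalStructure.le_normalizer_commutator_of_le ?_ c.LQ)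
    rw [normalizer_eq_top_iff.mpr c.normalY]; exact le_top
  refine le_antisymm (Coprime.commutator_le_of_le_normalizer hQY) ((c.normal_cases_Q hn).resolve_right fun h => ?_)
  rw [Coprime.commutator_commutator_eq hQY hcop (Or.inr hs)] at h
  exact c.Y_not_comm_Q h

/-- In the solvable case the residual is normal. -/
theorem Ctx.eq_of_solvable (c : Ctx p R Y Q S L) (h : ⁅⁅Y, Y⁆, Y⁆ = ⊥) : Y = R := by
  classical
  haveI := c.normalY
  obtain ⟨t, ht, htp, hY⟩ := c.exists_prime h
  haveI := Fact.mk ht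
  haveI : Group.IsNilpotent Y := hY.isNilpotent
  have hcopS : (Nat.card S).Coprime (Nat.card Y) := by
    obtain ⟨a, ha⟩ := IsPGroup.iff_card.mp c.pS
    obtain ⟨b, hb⟩ := IsPGroup.iff_card.mp hY
    rw [ha, hb]
    exact Nat.Coprime.pow a b ((Nat.coprime_primes (Fact.out : p.Prime) ht).mpr (Ne.symm htp))
  have hcopQ := hcopS.coprime_dvd_left (card_dvd_of_le c.QS)
  have hYQ := c.commutator_Q_eq hcopQ inferInstance
  set F : Subgroup A := (frattini Y).map Y.subtype with hF
  haveI : F.Normal := by rw [hF]; infer_instance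
  have hFY : F ≤ Y := map_subtype_le _
  set f := QuotientGroup.mk' F with hf
  have hker : f.ker = F := QuotientGroup.ker_mk' F
  set V := Y.map f with hV
  have hVea : Cfsg.IsElementaryAbelian t V := by
    refine ⟨⟨⟨?_⟩⟩, ?_⟩
    · rintro ⟨_, x, hx, rfl⟩ ⟨_, y, hy, rfl⟩
      apply Subtype.ext
      show f x * f y = f y * f x
      rw [← commutatorElement_eq_one_iff_mul_comm, ← map_commutatorElement, ← MonoidHom.mem_ker, hker]
      exact ⟨⁅(⟨x, hx⟩ : Y), ⟨y, hy⟩⁆,
        Core.commutator_le_frattini (commutator_mem_commutator (mem_top _) (mem_top _)), rfl⟩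
    · rintro _ ⟨x, hx, rfl⟩
      rw [← map_pow, ← MonoidHom.mem_ker, hker]
      exact ⟨⟨x, hx⟩ ^ t, Core.pow_mem_frattini hY _, rfl⟩
  set U := R.map f with hU
  have hUV : U ≤ V := map_mono c.RY
  suffices hVU : V ≤ U by
    have h1 : Y ≤ R ⊔ F := by
      have := map_le_iff_le_comap.mp hVU
      rwa [hU, comap_map_eq, hker] at this
    have h2 : R.subgroupOf Y = ⊤ := by
      refine Core.eq_top_of_sup_frattini (D := frattini Y) le_rfl ?_
      apply map_injective Y.subtype_injective
      rw [Subgroup.map_sup, ← hF, map_subgroupOf_eq_of_le c.RY, ← MonoidHom.range_eq_map, range_subtype]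
      exact le_antisymm (sup_le c.RY hFY) h1
    exact le_antisymm (subgroupOf_eq_top.mp h2) c.RY
  have hnorm : ∀ {H : Subgroup A}, S ≤ normalizer (H : Set A) → S.map f ≤ normalizer ((H.map f : Subgroup _) : Set (A ⧸ F)) :=
    fun hH => (map_mono hH).trans (le_normalizer_map f)
  have hVcard : Nat.card V ∣ Nat.card Y := card_map_dvd _ f
  have hcopV : (Nat.card (S.map f)).Coprime (Nat.card V) :=
    (hcopS.coprime_dvd_left (card_map_dvd _ f)).coprime_dvd_right hVcard
  have hSY : S ≤ normalizer (Y : Set A) := by rw [normalizer_eq_top_iff.mpr c.normalY]; exact le_top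
  obtain ⟨W, hWV, hUW, hUWV, -⟩ := Signalizer.KBal.exists_compl hVea hUV
  obtain ⟨W', hW'V, hSW', hUW', hUW'V⟩ :=
    S0660.result V (S.map f) U hVea.1 (hnorm hSY) hcopV hUV (hnorm c.SR) W hWV hUW hUWV
  set X := W'.comap f with hX
  have hXY : X ≤ Y := by
    refine (comap_mono hW'V).trans ?_
    rw [hV, comap_map_eq, hker, sup_eq_left.mpr hFY]
  have hSX : S ≤ normalizer (X : Set A) :=
    (map_le_iff_le_comap.mp hSW').trans (le_normalizer_comap f)
  rcases c.dich X hSX with hRX | hXQ
  · exfalso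
    have hU0 : U = ⊥ := by
      rw [eq_bot_iff, ← hUW']
      exact le_inf le_rfl (map_le_iff_le_comap.mpr hRX)
    rw [hU, Subgroup.map_eq_bot_iff, hker] at hU0
    have hle : Y ≤ F := c.Ymin F inferInstance hU0
    have htop : (⊥ : Subgroup Y) ⊔ frattini Y = ⊤ := by
      apply map_injective Y.subtype_injective
      rw [bot_sup_eq, ← hF, ← MonoidHom.range_eq_map, range_subtype]
      exact le_antisymm hFY hle
    have h0 := Core.eq_top_of_sup_frattini le_rfl htop
    refine c.Y_not_comm_Q ?_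
    have : Y = ⊥ := by
      have := congrArg (Subgroup.map Y.subtype) h0
      rwa [Subgroup.map_bot, ← MonoidHom.range_eq_map, range_subtype, eq_comm] at this
    rw [this]; exact commutator_bot_left _
  · have hXQ' : ⁅X, Q⁆ = ⊥ := by
      refine le_bot_iff.mp ((le_inf ?_ ?_).trans (inf_eq_bot_of_coprime hcopQ.symm).le)
      · exact (commutator_mono hXY le_rfl).trans hYQ.le
      · rw [commutator_comm]; exact le_normalizer_iff_commutator_le_left.mp hXQ
    have hQW : ⁅W', Q.map f⁆ = ⊥ := by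
      rw [← map_comap_eq_self_of_surjective (f := f) (QuotientGroup.mk'_surjective F) W', ← hX,
        ← map_commutator, hXQ', Subgroup.map_bot]
    have hQU : Q.map f ≤ normalizer (U : Set (A ⧸ F)) := (map_mono c.QS).trans (hnorm c.SR)
    rw [show V = ⁅V, Q.map f⁆ by rw [hV, ← map_commutator, hYQ], commutator_le]
    intro v hv q hq
    rw [← hUW'V] at hv
    have hnU : W' ≤ normalizer (U : Set (A ⧸ F)) := fun w hw => centralizer_le_normalizer _
      (mem_centralizer_iff.mpr fun x hx => Coprime.ea_comm hVea (hUV hx) (hW'V hw))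
    obtain ⟨u, hu, w, hw, rfl⟩ := (Coprime.mem_sup_of_le_normalizer hnU).mp hv
    have hwq : w * q = q * w := Layer.commute_of_commutator_eq_bot hQW hw hq
    have e : ⁅u * w, q⁆ = u * (q * u⁻¹ * q⁻¹) := by
      rw [commutatorElement_def, mul_inv_rev]
      calc u * w * q * (w⁻¹ * u⁻¹) * q⁻¹ = u * (w * q) * w⁻¹ * u⁻¹ * q⁻¹ := by group
        _ = u * (q * w) * w⁻¹ * u⁻¹ * q⁻¹ := by rw [hwq]
        _ = _ := by group
    rw [e]
    exact mul_mem hu ((mem_normalizer_iff.mp (hQU hq) _).mp (inv_mem hu))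

end Cfsg.Agent.IsolatedPMin
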