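import Mathlib
import Cfsg.Agent.IsolatedPMin.Setup
import Cfsg.Agent.IsolatedPMin.Solvable
import Cfsg.Agent.IsolatedPMin.Components
import Cfsg.Agent.IsolatedPMin.Divides

/-!
The normal closure of the residual of an isolated `p`-minimal subgroup.
-/

set_option autoImplicit false
set_option linter.style.haveILetI false

namespace Cfsg.Agent.IsolatedPMin

open Subgroup LocalStructure

variable {G : Type*} [Group G] [Finite G] {p : ℕ} [Fact p.Prime] {S : Sylow p G} {P L Y : Subgroup G}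

/-- `Y / O_p(Y)` is the image of `Y` in `G / O_p(G)`. -/
theorem exists_equiv (Y : Subgroup G) [Y.Normal] :
    ∃ e : (↥Y ⧸ Cfsg.pCore p ↥Y) ≃* ↥(Y.map (QuotientGroup.mk' (Cfsg.pCore p G))),
      ∀ y : Y, ((e (QuotientGroup.mk y) : Y.map (QuotientGroup.mk' (Cfsg.pCore p G))) : G ⧸ Cfsg.pCore p G)
        = QuotientGroup.mk (y : G) := by
  set f := QuotientGroup.mk' (Cfsg.pCore p G)
  have hk : (f.subgroupMap Y).ker = Cfsg.pCore p ↥Y := by
    ext y
    rw [MonoidHom.mem_ker, Subtype.ext_iff]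
    have h1 : (f.subgroupMap Y y : G ⧸ Cfsg.pCore p G) = QuotientGroup.mk (y : G) := rfl
    rw [h1, Subgroup.coe_one, QuotientGroup.eq_one_iff]
    constructor
    · intro hy
      have : (y : G) ∈ (Cfsg.pCore p ↥Y).map Y.subtype := by
        rw [Core.map_pCore_normal]; exact ⟨hy, y.2⟩
      obtain ⟨z, hz, e⟩ := this
      rwa [← Subtype.ext (a1 := z) (a2 := y) e]
    · intro hy
      exact ((Core.map_pCore_normal (p := p) Y).le (mem_map_of_mem Y.subtype hy)).1
  exact ⟨(QuotientGroup.quotientMulEquivOfEq hk.symm).trans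
    (QuotientGroup.quotientKerEquivOfSurjective _ (f.subgroupMap_surjective Y)), fun y => rfl⟩

theorem isSolvable_image_iff (Y : Subgroup G) [Y.Normal] :
    Group.IsSolvable ↥(Y.map (QuotientGroup.mk' (Cfsg.pCore p G))) ↔ Group.IsSolvable ↥Y := by
  obtain ⟨e, -⟩ := exists_equiv (p := p) Y
  constructor
  · intro hs
    haveI := hs
    haveI : Group.IsSolvable (↥Y ⧸ Cfsg.pCore p ↥Y) := Group.isSolvable_of_surjective (f := e.symm.toMonoidHom) e.symm.surjective
    haveI : Group.IsSolvable ↥(Cfsg.pCore p ↥Y) := by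
      haveI := (Core.pCore_isPGroup (p := p) (G := ↥Y)).isNilpotent
      infer_instance
    exact Group.isSolvable_of_ker_le_range (Cfsg.pCore p ↥Y).subtype (QuotientGroup.mk' (Cfsg.pCore p ↥Y))
      (by rw [QuotientGroup.ker_mk', range_subtype])
  · intro hs
    haveI := hs
    exact Group.isSolvable_of_surjective (f := (QuotientGroup.mk' (Cfsg.pCore p G)).subgroupMap Y)
      (MonoidHom.subgroupMap_surjective _ Y)

/-- In the solvable case the residual is already normal. -/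
theorem Iso.eq_of_solvable (h : Iso S P L Y) (hs : Group.IsSolvable ↥Y) : resOf p P = Y := by
  haveI := h.Y_normal
  haveI : (Cfsg.pCore p G).Normal := Core.pCore_normal
  have c := h.ctx
  have hb := (c.perfect_or).resolve_left fun hp =>
    c.perfect_iff_not_solvable.mp hp ((isSolvable_image_iff Y).mpr hs)
  have he := congrArg (comap (QuotientGroup.mk' (Cfsg.pCore p G))) (c.eq_of_solvable hb)
  rw [comap_map_eq, comap_map_eq, QuotientGroup.ker_mk'] at he
  have hYP : Y ≤ P := by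
    refine le_sup_left.trans (he.le.trans (sup_le (resOf_le p P) ?_))
    exact (Core.pCore_le_sylow S).trans h.SP
  have hres : Y ≤ resOf p Y := by
    haveI := Fusion.pResidual_characteristic (p := p) (G := ↥Y)
    haveI : (resOf p Y).Normal := inferInstance
    conv_lhs => rw [h.hY]
    exact normalClosure_le_normal ((resOf_resOf p P).ge.trans (resOf_mono p h.res_le))
  exact le_antisymm h.res_le (hres.trans (resOf_mono p hYP))

theorem Iso.class_two (h : Iso S P L Y) (hs : Group.IsSolvable ↥Y) :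
    ∃ _ : (Cfsg.pCore p ↥Y).Normal, ∃ t : ℕ, t.Prime ∧ t ≠ p ∧ IsPGroup t (↥Y ⧸ Cfsg.pCore p ↥Y) ∧
      ∃ _ : Group.IsNilpotent (↥Y ⧸ Cfsg.pCore p ↥Y), Group.nilpotencyClass (↥Y ⧸ Cfsg.pCore p ↥Y) ≤ 2 := by
  haveI := h.Y_normal
  haveI : (Cfsg.pCore p G).Normal := Core.pCore_normal
  have c := h.ctx
  have hb := (c.perfect_or).resolve_left fun hp =>
    c.perfect_iff_not_solvable.mp hp ((isSolvable_image_iff Y).mpr hs)
  obtain ⟨e, -⟩ := exists_equiv (p := p) Y
  obtain ⟨t, ht, htp, hY⟩ := c.exists_prime hb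
  obtain ⟨hn, hcl⟩ := c.nilpotent_of_not_perfect hb
  haveI := hn
  haveI : Group.IsNilpotent (↥Y ⧸ Cfsg.pCore p ↥Y) := Group.nilpotent_of_surjective e.symm.toMonoidHom e.symm.surjective
  exact ⟨Core.pCore_normal, t, ht, htp, hY.of_equiv e.symm, inferInstance,
    (Group.nilpotencyClass_le_of_surjective e.symm.toMonoidHom e.symm.surjective).trans hcl⟩

theorem Iso.res_le_comap (h : Iso S P L Y) [(Cfsg.pCore p G).Normal] :
    resOf p P ≤ (Cfsg.generalizedFittingSubgroup (G ⧸ Cfsg.pCore p G)).comap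
      (QuotientGroup.mk' (Cfsg.pCore p G)) :=
  map_le_iff_le_comap.mp (h.ctx.RY.trans h.ctx.le_generalizedFitting)

theorem Iso.semisimple (h : Iso S P L Y) (hs : ¬ Group.IsSolvable ↥Y) :
    ∃ _ : (Cfsg.pCore p ↥Y).Normal,
      p ∣ Nat.card (↥Y ⧸ Cfsg.pCore p ↥Y) ∧ Cfsg.layer (↥Y ⧸ Cfsg.pCore p ↥Y) = ⊤ ∧
      ∀ K₁ K₂ : Subgroup (↥Y ⧸ Cfsg.pCore p ↥Y), Cfsg.IsComponent K₁ → Cfsg.IsComponent K₂ →
        ∃ s ∈ (S : Subgroup G), ((K₂.comap (QuotientGroup.mk' (Cfsg.pCore p ↥Y))).map Y.subtype) =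
          (((K₁.comap (QuotientGroup.mk' (Cfsg.pCore p ↥Y))).map Y.subtype)).map (MulAut.conj s).toMonoidHom := by
  haveI := h.Y_normal
  haveI : (Cfsg.pCore p G).Normal := Core.pCore_normal
  have c := h.ctx
  have hp := c.perfect_iff_not_solvable.mpr fun hb => hs ((isSolvable_image_iff Y).mp hb)
  set f := QuotientGroup.mk' (Cfsg.pCore p G) with hf
  set Yb := Y.map f with hYb
  obtain ⟨e, he⟩ : ∃ e : (↥Y ⧸ Cfsg.pCore p ↥Y) ≃* ↥Yb, ∀ y : Y,
      ((e (QuotientGroup.mk y) : Yb) : G ⧸ Cfsg.pCore p G) = f (y : G) := exists_equiv (p := p) Y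
  refine ⟨Core.pCore_normal, ?_, ?_, fun K₁ K₂ h1 h2 => ?_⟩
  · rw [Nat.card_congr e.toEquiv]; exact c.dvd_card hp
  · rw [← Layer.map_layer_equiv e.symm, c.layer_top hp, Subgroup.map_top_of_surjective _ e.symm.surjective]
  · let up : Subgroup (↥Y ⧸ Cfsg.pCore p ↥Y) → Subgroup (G ⧸ Cfsg.pCore p G) :=
      fun K => (K.map e.toMonoidHom).map Yb.subtype
    have hup : ∀ K, Cfsg.IsComponent K → Cfsg.IsComponent (up K) := fun K hK =>
      (Layer.isComponent_map_subtype_iff c.normalY.isSubnormal _).mp (Layer.isComponent_map_surj e hK)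
    obtain ⟨⟨_, s, hs', rfl⟩, hs⟩ :=
      c.orbit hp (hup K₁ h1) (map_subtype_le _) (hup K₂ h2) (map_subtype_le _)
    have hmem : ∀ (K : Subgroup (↥Y ⧸ Cfsg.pCore p ↥Y)) (x : G) (hx : x ∈ Y),
        x ∈ (K.comap (QuotientGroup.mk' (Cfsg.pCore p ↥Y))).map Y.subtype ↔ f x ∈ up K := by
      intro K x hx
      constructor
      · rintro ⟨y, hy, rfl⟩
        exact ⟨e (QuotientGroup.mk y), mem_map_of_mem _ hy, he y⟩
      · rintro ⟨_, ⟨k, hk, rfl⟩, hk'⟩
        refine ⟨⟨x, hx⟩, ?_, rfl⟩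
        have h3 : e k = e (QuotientGroup.mk ⟨x, hx⟩) := Subtype.ext (hk'.trans (he ⟨x, hx⟩).symm)
        rw [e.injective h3] at hk
        exact hk
    refine ⟨s, hs', ?_⟩
    ext x
    rw [mem_map (f := (MulAut.conj s).toMonoidHom)]
    constructor
    · intro hx
      have hxY : x ∈ Y := map_subtype_le _ hx
      have hyY : s⁻¹ * x * s ∈ Y := by simpa using h.Y_normal.conj_mem x hxY s⁻¹
      have h3 := (hmem K₂ x hxY).mp hx
      rw [← hs] at h3
      obtain ⟨w, hw, hwx⟩ := h3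
      refine ⟨s⁻¹ * x * s, (hmem K₁ _ hyY).mpr ?_, by simp [mul_assoc]⟩
      have : f (s⁻¹ * x * s) = w := by
        rw [map_mul, map_mul, map_inv, ← hwx]
        simp [mul_assoc]
      rwa [this]
    · rintro ⟨y, hy, rfl⟩
      have hyY : y ∈ Y := map_subtype_le _ hy
      refine (hmem K₂ _ (h.Y_normal.conj_mem y hyY s)).mpr ?_
      rw [← hs]
      exact ⟨f y, (hmem K₁ y hyY).mp hy, by simp⟩

theorem Iso.sub_isolated (h : Iso S P L Y) :
    ¬ (Cfsg.pCore p ↥((normalizer ((S : Subgroup G) : Set G) ⊓ (Y ⊔ (S : Subgroup G))) ⊔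
          ⨆ P' : {P' : Subgroup G // (S : Subgroup G) ≤ P' ∧ P' ≤ Y ⊔ (S : Subgroup G) ∧ Cfsg.IsPMinimal p ↥P' ∧ P' ≠ P}, (P' : Subgroup G))).map
        (Subgroup.subtype _) ≤ (Cfsg.pCore p ↥P).map P.subtype := by
  set L0 := (normalizer ((S : Subgroup G) : Set G) ⊓ (Y ⊔ (S : Subgroup G))) ⊔
    ⨆ P' : {P' : Subgroup G // (S : Subgroup G) ≤ P' ∧ P' ≤ Y ⊔ (S : Subgroup G) ∧ Cfsg.IsPMinimal p ↥P' ∧ P' ≠ P}, (P' : Subgroup G)
  have hL0 : L0 ≤ L := sup_le (inf_le_left.trans h.NL) (iSup_le fun P' => h.PL P' P'.2.1 P'.2.2.2.1 P'.2.2.2.2)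
  have hS0 : (S : Subgroup G) ≤ L0 := le_sup_of_le_left (le_inf le_normalizer le_sup_right)
  set Q := (Cfsg.pCore p ↥L).map L.subtype with hQ
  haveI := normal_subgroupOf_of_le_normalizer (hL0.trans h.LQ)
  have hp : IsPGroup p (Q.subgroupOf L0) :=
    (S.isPGroup'.to_le h.QS).comap_of_injective L0.subtype L0.subtype_injective
  intro hle
  refine h.iso (le_trans ?_ hle)
  intro q hq
  exact ⟨⟨q, hS0 (h.QS hq)⟩, Core.le_pCore hp (mem_subgroupOf.mpr hq), rfl⟩

end Cfsg.Agent.IsolatedPMin
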